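import Cfsg.Agent.Lib.H04.Chev.TorusFinal
import Cfsg.Agent.Lib.H04.Chev.Weyl2
import Cfsg.Agent.Lib.H04.Chev.Tab.G2_w
import Cfsg.Agent.Lib.H04.Chev.Tab.B2_w
import Cfsg.Agent.Lib.H04.Chev.Tab.D4_w
import Cfsg.Agent.Lib.H04.Chev.Tab.F4_w
import Cfsg.Agent.Lib.H04.Chev.Tab.E6_w
import Cfsg.Agent.Lib.H04.Chev.Tab.E7_w
import Cfsg.Agent.Lib.H04.Chev.Tab.E8_w

/-!
# The orders of the Chevalley groups and the Coxeter groups of the seven types
-/

set_option autoImplicit false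
set_option linter.style.haveILetI false
set_option linter.unusedSimpArgs false
set_option linter.unusedSectionVars false

open Cfsg.Lie

namespace Cfsg.Agent.H04.Chev

variable {D : ChevalleyDatum} {T : Tabs} {U : Tabs3}

section
variable {F : Type*} [Field F] [Fintype F]

theorem order_aux (C : Checks D T) (C2 : Checks2 D T) (C3 : Checks3 D T U) {steps : List (ℕ × List Row)} {degs : List ℕ}
    (h1 : chainCheck D T U steps [] = true)
    (h2 : allRange D.rank (fun i => memL i (steps.map Prod.fst)) = true) (h3 : polyCheck D.rank steps degs) {c : ℕ}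
    (hc : c * Nat.card (D.diagonalSubgroup F) = (Fintype.card F - 1) ^ D.rank) :
    c * Nat.card (D.group F) = Fintype.card F ^ (D.nroots / 2) * (degs.map fun d => Fintype.card F ^ d - 1).prod :=
  card_group_of C C2 C3 (pow_mul_PS C C2 C3 h1 h2 h3 Fintype.card_pos) hc

/-- The order of a Chevalley group of one of the seven types -/
theorem order_gen {q : ℕ} (hq : Fintype.card F = q) (p : ChevalleyDatum × ℕ × List ℕ)
    (hp : p ∈ [(chevG2, 1, [2, 6]), (chevF4, 1, [2, 6, 8, 12]), (chevE8, 1, [2, 8, 12, 14, 18, 20, 24, 30]),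
      (chevE6, Nat.gcd 3 (q - 1), [2, 5, 6, 8, 9, 12]), (chevE7, Nat.gcd 2 (q - 1), [2, 6, 8, 10, 12, 14, 18]),
      (chevB2, Nat.gcd 2 (q - 1), [2, 4]), (chevD4, Nat.gcd 2 (q - 1) ^ 2, [2, 4, 4, 6])]) :
    p.2.1 * Nat.card (p.1.group F) = q ^ (p.1.nroots / 2) * (p.2.2.map fun d => q ^ d - 1).prod := by
  subst hq
  simp only [List.mem_cons, List.not_mem_nil, or_false] at hp
  rcases hp with rfl | rfl | rfl | rfl | rfl | rfl | rfl
  · exact order_aux TG2.checks TG2.checks2 TG2.checks3 TG2.chainC TG2.finalC TG2.polyC (S1035_gen rfl (chevG2, 1) (by simp))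
  · exact order_aux TF4.checks TF4.checks2 TF4.checks3 TF4.chainC TF4.finalC TF4.polyC (S1035_gen rfl (chevF4, 1) (by simp))
  · exact order_aux TE8.checks TE8.checks2 TE8.checks3 TE8.chainC TE8.finalC TE8.polyC (S1035_gen rfl (chevE8, 1) (by simp))
  · exact order_aux TE6.checks TE6.checks2 TE6.checks3 TE6.chainC TE6.finalC TE6.polyC (S1035_gen rfl (chevE6, _) (by simp))
  · exact order_aux TE7.checks TE7.checks2 TE7.checks3 TE7.chainC TE7.finalC TE7.polyC (S1035_gen rfl (chevE7, _) (by simp))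
  · exact order_aux TB2.checks TB2.checks2 TB2.checks3 TB2.chainC TB2.finalC TB2.polyC (S1035_gen rfl (chevB2, _) (by simp))
  · exact order_aux TD4.checks TD4.checks2 TD4.checks3 TD4.chainC TD4.finalC TD4.polyC (S1035_gen rfl (chevD4, _) (by simp))

end

/-- The Coxeter groups of the seven types -/
theorem cox_all (p : ChevalleyDatum × (Σ n : ℕ, CoxeterMatrix (Fin n)) × ℕ × ℕ)
    (hp : p ∈ [(chevG2, ⟨2, CoxeterMatrix.G₂⟩, 6, 12), (chevB2, ⟨2, CoxeterMatrix.B 2⟩, 4, 8), (chevD4, ⟨4, coxeterD4⟩, 6, 192),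
      (chevF4, ⟨4, CoxeterMatrix.F₄⟩, 12, 1152), (chevE6, ⟨6, CoxeterMatrix.E₆⟩, 12, 51840), (chevE7, ⟨7, CoxeterMatrix.E₇⟩, 18, 2903040),
      (chevE8, ⟨8, CoxeterMatrix.E₈⟩, 30, 696729600)]) :
    ∃ (T : Tabs) (U : Tabs3), ∃ (C : Checks p.1 T) (_ : Checks2 p.1 T) (_ : Checks3 p.1 T U) (hn : p.1.rank = p.2.1.1),
      Cox5 C hn p.2.1.2 p.2.2.1 p.2.2.2 := by
  simp only [List.mem_cons, List.not_mem_nil, or_false] at hp
  rcases hp with rfl | rfl | rfl | rfl | rfl | rfl | rfl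
  · exact ⟨_, _, TG2.checks, TG2.checks2, TG2.checks3, rfl, cox5_of TG2.checks TG2.checks2 TG2.checks3 rfl TG2.chainC TG2.finalC TG2.coxC TG2.hC TG2.cardC⟩
  · exact ⟨_, _, TB2.checks, TB2.checks2, TB2.checks3, rfl, cox5_of TB2.checks TB2.checks2 TB2.checks3 rfl TB2.chainC TB2.finalC TB2.coxC TB2.hC TB2.cardC⟩
  · exact ⟨_, _, TD4.checks, TD4.checks2, TD4.checks3, rfl, cox5_of TD4.checks TD4.checks2 TD4.checks3 rfl TD4.chainC TD4.finalC TD4.coxC TD4.hC TD4.cardC⟩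
  · exact ⟨_, _, TF4.checks, TF4.checks2, TF4.checks3, rfl, cox5_of TF4.checks TF4.checks2 TF4.checks3 rfl TF4.chainC TF4.finalC TF4.coxC TF4.hC TF4.cardC⟩
  · exact ⟨_, _, TE6.checks, TE6.checks2, TE6.checks3, rfl, cox5_of TE6.checks TE6.checks2 TE6.checks3 rfl TE6.chainC TE6.finalC TE6.coxC TE6.hC TE6.cardC⟩
  · exact ⟨_, _, TE7.checks, TE7.checks2, TE7.checks3, rfl, cox5_of TE7.checks TE7.checks2 TE7.checks3 rfl TE7.chainC TE7.finalC TE7.coxC TE7.hC TE7.cardC⟩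
  · exact ⟨_, _, TE8.checks, TE8.checks2, TE8.checks3, rfl, cox5_of TE8.checks TE8.checks2 TE8.checks3 rfl TE8.chainC TE8.finalC TE8.coxC TE8.hC TE8.cardC⟩

/-- S1039 -/
theorem N_hom_gen {F : Type*} [Field F] (p : ChevalleyDatum × (Σ n : ℕ, CoxeterMatrix (Fin n)))
    (hp : p ∈ [(chevG2, ⟨2, CoxeterMatrix.G₂⟩), (chevB2, ⟨2, CoxeterMatrix.B 2⟩), (chevD4, ⟨4, coxeterD4⟩), (chevF4, ⟨4, CoxeterMatrix.F₄⟩),
      (chevE6, ⟨6, CoxeterMatrix.E₆⟩), (chevE7, ⟨7, CoxeterMatrix.E₇⟩), (chevE8, ⟨8, CoxeterMatrix.E₈⟩)]) :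
    ∃ φ : ↥(p.1.monomialSubgroup F) →* p.2.2.Group, Function.Surjective φ ∧
      φ.ker = (p.1.diagonalSubgroup F).subgroupOf (p.1.monomialSubgroup F) ∧
      ∀ (i : Fin p.2.1) (g : ↥(p.1.monomialSubgroup F)),
        ((g : GL p.1.Idx F) : Matrix p.1.Idx p.1.Idx F) = p.1.nMat F (p.1.simple i) 1 → φ g = p.2.2.simple i := by
  have key : ∃ (h w : ℕ), (p.1, p.2, h, w) ∈ ([(chevG2, ⟨2, CoxeterMatrix.G₂⟩, 6, 12), (chevB2, ⟨2, CoxeterMatrix.B 2⟩, 4, 8), (chevD4, ⟨4, coxeterD4⟩, 6, 192),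
      (chevF4, ⟨4, CoxeterMatrix.F₄⟩, 12, 1152), (chevE6, ⟨6, CoxeterMatrix.E₆⟩, 12, 51840), (chevE7, ⟨7, CoxeterMatrix.E₇⟩, 18, 2903040),
      (chevE8, ⟨8, CoxeterMatrix.E₈⟩, 30, 696729600)] : List (ChevalleyDatum × (Σ n : ℕ, CoxeterMatrix (Fin n)) × ℕ × ℕ)) := by
    simp only [List.mem_cons, List.not_mem_nil, or_false] at hp
    rcases hp with rfl | rfl | rfl | rfl | rfl | rfl | rfl
    · exact ⟨6, 12, by simp⟩
    · exact ⟨4, 8, by simp⟩
    · exact ⟨6, 192, by simp⟩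
    · exact ⟨12, 1152, by simp⟩
    · exact ⟨12, 51840, by simp⟩
    · exact ⟨18, 2903040, by simp⟩
    · exact ⟨30, 696729600, by simp⟩
  obtain ⟨h, w, hm⟩ := key
  obtain ⟨T, U, C, C2, C3, hn, H⟩ := cox_all _ hm
  exact N_hom C C2 C3 F hn p.2.2 H.ord

end Cfsg.Agent.H04.Chev
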