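import Cfsg.Agent.Lib.H04.Chev.Bruhat

/-!
# Parabolic subgroups
-/

set_option autoImplicit false
set_option linter.style.haveILetI false
set_option linter.unusedSimpArgs false
set_option linter.unusedSectionVars false

open Cfsg.Lie

namespace Cfsg.Agent.H04.Chev

variable {D : ChevalleyDatum} {T : Tabs} {U : Tabs3}

section
variable (C : Checks D T) (C2 : Checks2 D T) (C3 : Checks3 D T U)
variable {F : Type*} [Field F]

include C3 in
lemma inRootSub_iff {J : Set ℕ} {r : ℕ} : D.InRootSub J r ↔ r < D.nroots ∧ ∀ i, i < D.rank → i ∉ J → U.cofI r i = 0 := by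
  unfold Cfsg.Lie.ChevalleyDatum.InRootSub
  constructor
  · rintro ⟨h1, h2⟩
    exact ⟨h1, fun i hi hJ => (C3.coroot_zero r h1 i hi).mp (h2 i hi hJ)⟩
  · rintro ⟨h1, h2⟩
    exact ⟨h1, fun i hi hJ => (C3.coroot_zero r h1 i hi).mpr (h2 i hi hJ)⟩

include C C3 in
lemma simple_inRootSub {J : Set ℕ} {j : ℕ} (hj : j < D.rank) (hJ : j ∈ J) : D.InRootSub J (D.simple j) := by
  rw [inRootSub_iff C3]
  refine ⟨C.simple_lt j hj, fun i hi hiJ => ?_⟩
  rw [C3.cof_simple j hj i hi, if_neg]
  rintro rfl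
  exact hiJ hJ

include C3 in
lemma neg_inRootSub {J : Set ℕ} {r : ℕ} (h : D.InRootSub J r) : D.InRootSub J (negF D r) := by
  rw [inRootSub_iff C3] at h ⊢
  refine ⟨negF_lt h.1, fun i hi hiJ => ?_⟩
  rw [C3.cof_neg r h.1 i hi, h.2 i hi hiJ, neg_zero]

/-- the generators of the parabolic subgroup -/
def paraGen (D : ChevalleyDatum) (F : Type*) [Field F] (J : Set ℕ) : Set (GL D.Idx F) :=
  {g | ∃ (r : ℕ) (t : F), (D.IsPosRoot r ∨ D.InRootSub J r) ∧ (g : Matrix D.Idx D.Idx F) = D.x F r t}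

lemma nG_mem_para {J : Set ℕ} {j : ℕ} (hj : j < D.rank) (hJ : j ∈ J) : nG C (D.simple j) (1 : F) ∈ D.parabolicSubgroup F J := by
  apply Subgroup.mem_sup_right
  apply Subgroup.subset_closure
  exact ⟨j, hJ, hj, nG_val C _ _⟩

lemma B_le_para {J : Set ℕ} : D.borelSubgroup F ≤ D.parabolicSubgroup F J := le_sup_left

include C2 C3 in
/-- negative root elements in the parabolic -/
lemma neg_mem_para {J : Set ℕ} : ∀ q, D.nroots / 2 ≤ q → q < D.nroots → D.InRootSub J q →
    ∀ t : F, xG C (negF D q) t ∈ D.parabolicSubgroup F J := by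
  intro q
  induction q using Nat.strong_induction_on with
  | _ q ih =>
    intro h0 hq hin t
    rw [inRootSub_iff C3] at hin
    rcases C3.height q h0 hq with ⟨i, hi, rfl⟩ | ⟨j, hj, h1, h2, h3⟩
    · have hiJ : i ∈ J := by
        by_contra h
        have := hin.2 i hi h
        rw [C3.cof_simple i hi i hi, if_pos rfl] at this
        exact one_ne_zero this
      have h4 := conj_nG_self C C3 hi (-t)
      rw [neg_neg, ← mul_inv_eq_iff_eq_mul] at h4
      rw [← h4]
      refine mul_mem (mul_mem (nG_mem_para C hi hiJ) ?_) (inv_mem (nG_mem_para C hi hiJ))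
      exact B_le_para (U_le_B (xG_mem_pos C ((C2.pos_iff _).mpr ⟨h0, hq⟩) _))
    · have hjJ : j ∈ J := by
        by_contra h
        exact h1 (hin.2 j hj h)
      have hwlt := C.w_lt j hj q hq
      have hin' : D.InRootSub J (T.w (D.simple j) q) := by
        rw [inRootSub_iff C3]
        refine ⟨hwlt, fun i hi hiJ => ?_⟩
        rw [C3.cof_w j hj q hq i hi, hin.2 i hi hiJ, if_neg]
        · simp
        · rintro rfl
          exact hiJ hjJ
      have h4 := ih _ h3 h2 hwlt hin' (((signU F (T.eta (D.simple j) (negF D (T.w (D.simple j) q))))⁻¹ : Fˣ) * t)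
      have h5 := (NAct_simple (F := F) C hj).conj _ (negF_lt hwlt) (((signU F (T.eta (D.simple j) (negF D (T.w (D.simple j) q))))⁻¹ : Fˣ) * t)
      have e : ((signU F (T.eta (D.simple j) (negF D (T.w (D.simple j) q))) : Fˣ) : F) * (((signU F (T.eta (D.simple j) (negF D (T.w (D.simple j) q))))⁻¹ : Fˣ) : F) = 1 := by
        rw [← Units.val_mul, mul_inv_cancel, Units.val_one]
      rw [← mul_assoc, e, one_mul, C.w_neg j hj _ hwlt, C.w_w j hj q hq] at h5
      rw [← h5]
      exact mul_mem (mul_mem (nG_mem_para C hj hjJ) h4) (inv_mem (nG_mem_para C hj hjJ))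

include C C2 C3 in
/-- S1047 -/
theorem para_eq (J : Set ℕ) : D.parabolicSubgroup F J = D.diagonalSubgroup F ⊔ Subgroup.closure (paraGen D F J) := by
  apply le_antisymm
  · unfold Cfsg.Lie.ChevalleyDatum.parabolicSubgroup
    refine sup_le ?_ ?_
    · unfold Cfsg.Lie.ChevalleyDatum.borelSubgroup
      refine sup_le ?_ le_sup_left
      refine le_trans ?_ le_sup_right
      unfold Cfsg.Lie.ChevalleyDatum.posUnipotent
      apply Subgroup.closure_mono
      rintro g ⟨r, t, h1, h2⟩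
      exact ⟨r, t, Or.inl h1, h2⟩
    · rw [Subgroup.closure_le]
      rintro g ⟨j, hJ, hj, h⟩
      have hp := C.simple_lt j hj
      have e : g = xG C (D.simple j) 1 * xG C (negF D (D.simple j)) (-(1 : F)⁻¹) * xG C (D.simple j) 1 := by
        have : g = nG C (D.simple j) 1 := Units.ext (by rw [h, nG_val])
        rw [this]
        simp [nG, Cfsg.Lie.ChevalleyDatum.nWord, mul_assoc, neg_eq C.neg hp]
      rw [e]
      have hin := simple_inRootSub C C3 hj hJ
      have m1 : ∀ t : F, xG C (D.simple j) t ∈ D.diagonalSubgroup F ⊔ Subgroup.closure (paraGen D F J) := fun t =>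
        Subgroup.mem_sup_right (Subgroup.subset_closure ⟨_, t, Or.inr hin, xG_val C _ _⟩)
      have m2 : ∀ t : F, xG C (negF D (D.simple j)) t ∈ D.diagonalSubgroup F ⊔ Subgroup.closure (paraGen D F J) := fun t =>
        Subgroup.mem_sup_right (Subgroup.subset_closure ⟨_, t, Or.inr (neg_inRootSub C3 hin), xG_val C _ _⟩)
      exact mul_mem (mul_mem (m1 _) (m2 _)) (m1 _)
  · refine sup_le (H_le_B.trans B_le_para) ?_
    rw [Subgroup.closure_le]
    rintro g ⟨r, t, h1, h2⟩
    have hg : g = xG C r t := eq_xG C h2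
    rw [hg]
    have hpos : D.IsPosRoot r → xG C r t ∈ D.parabolicSubgroup F J := fun h =>
      B_le_para (U_le_B (xG_mem_pos C h t))
    rcases h1 with h1 | h1
    · exact hpos h1
    · by_cases h0 : D.nroots / 2 ≤ r
      · exact hpos ((C2.pos_iff r).mpr ⟨h0, h1.1⟩)
      · have h3 := neg_mem_para C C2 C3 (negF D r) (negF_pos C2 (not_le.mp h0)) (negF_lt h1.1) (neg_inRootSub C3 h1) t
        rw [negF_negF C2 h1.1] at h3
        exact h3

/-- the roots of the unipotent radical -/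
def RJ (D : ChevalleyDatum) (J : Set ℕ) (r : ℕ) : Prop := D.IsPosRoot r ∧ ¬ D.InRootSub J r

omit C C2 C3 in
lemma RJ_lt {J : Set ℕ} {r : ℕ} (h : RJ D J r) : r < D.nroots := h.1.1

lemma UJ_eq (J : Set ℕ) : D.unipotentRadical F J = RS C (RJ D J) F := by
  have := closure_eq_RS C (F := F) (R := RJ D J) (fun r h => RJ_lt h)
  rw [← this]
  unfold Cfsg.Lie.ChevalleyDatum.unipotentRadical RJ
  congr 1
  ext g
  constructor
  · rintro ⟨r, t, h1, h2, h3⟩
    exact ⟨r, t, ⟨h1, h2⟩, h3⟩
  · rintro ⟨r, t, ⟨h1, h2⟩, h3⟩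
    exact ⟨r, t, h1, h2, h3⟩

include C C2 C3 in
/-- the coefficient outside `J` -/
lemma RJ_spec {J : Set ℕ} {s : ℕ} (hs : RJ D J s) : ∃ i, i < D.rank ∧ i ∉ J ∧ 0 < U.cofI s i := by
  obtain ⟨h1, h2⟩ := hs
  obtain ⟨h3, h4⟩ := (C2.pos_iff s).mp h1
  rw [inRootSub_iff C3] at h2
  push Not at h2
  obtain ⟨i, hi, hiJ, h5⟩ := h2 h4
  have := C3.cof_pos s h3 h4 i hi
  exact ⟨i, hi, hiJ, lt_of_le_of_ne this (Ne.symm h5)⟩

include C C2 C3 in
/-- commutators of a root of `Φ_J` with a root of the radical -/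
lemma comm_RJ {J : Set ℕ} {r s : ℕ} (hr : D.InRootSub J r) (hs : RJ D J s) {c : ℕ × ℤ × ℕ × ℕ} (hc : c ∈ D.commTerms r s) :
    c.1 < D.nroots ∧ RJ D J c.1 := by
  have hlt := comm_lt C C3 hc
  refine ⟨hlt, ?_⟩
  obtain ⟨i, hi, hiJ, h5⟩ := RJ_spec C C2 C3 hs
  obtain ⟨h3, h4, h6⟩ := comm_cof C C3 hc
  have h7 := h6 i hi
  rw [(inRootSub_iff C3).mp hr |>.2 i hi hiJ] at h7
  have h8 : 0 < U.cofI c.1 i := by
    rw [h7]
    have : (1 : ℤ) ≤ (c.2.2.2 : ℤ) := by exact_mod_cast h4
    simp only [mul_zero, zero_add]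
    nlinarith
  refine ⟨(C2.pos_iff _).mpr ⟨pos_of_cof C2 C3 hlt hi h8, hlt⟩, ?_⟩
  intro h9
  rw [(inRootSub_iff C3).mp h9 |>.2 i hi hiJ] at h8
  exact lt_irrefl _ h8

include C C2 C3 in
/-- commutators of a positive root with a root of the radical -/
lemma comm_RJ' {J : Set ℕ} {r s : ℕ} (hr : D.IsPosRoot r) (hs : RJ D J s) {c : ℕ × ℤ × ℕ × ℕ} (hc : c ∈ D.commTerms r s) :
    c.1 < D.nroots ∧ RJ D J c.1 := by
  have hlt := comm_lt C C3 hc
  refine ⟨hlt, ?_⟩
  obtain ⟨i, hi, hiJ, h5⟩ := RJ_spec C C2 C3 hs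
  obtain ⟨h3, h4, h6⟩ := comm_cof C C3 hc
  have h7 := h6 i hi
  have hr' := (C2.pos_iff r).mp hr
  have h0 := C3.cof_pos r hr'.1 hr'.2 i hi
  have h8 : 0 < U.cofI c.1 i := by
    rw [h7]
    have h10 : (1 : ℤ) ≤ (c.2.2.2 : ℤ) := by exact_mod_cast h4
    have h11 : (1 : ℤ) ≤ (c.2.2.1 : ℤ) := by exact_mod_cast h3
    have h12 : 0 ≤ (c.2.2.1 : ℤ) * U.cofI r i := by positivity
    nlinarith
  refine ⟨(C2.pos_iff _).mpr ⟨pos_of_cof C2 C3 hlt hi h8, hlt⟩, ?_⟩
  intro h9
  rw [(inRootSub_iff C3).mp h9 |>.2 i hi hiJ] at h8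
  exact lt_irrefl _ h8

include C C2 C3 in
theorem para_le_normalizer (J : Set ℕ) :
    D.parabolicSubgroup F J ≤ Subgroup.normalizer (D.unipotentRadical F J : Set (GL D.Idx F)) := by
  rw [para_eq C C2 C3 J, UJ_eq C J]
  refine sup_le (H_le_normalizer C C3 _) ?_
  rw [Subgroup.closure_le]
  rintro g ⟨r, t, h1, h2⟩
  have hg : g = xG C r t := eq_xG C h2
  rw [hg]
  by_cases h3 : D.InRootSub J r
  · apply xG_mem_normalizer C h3.1
    intro s _ hs
    refine ⟨?_, ?_, fun c hc => comm_RJ C C2 C3 h3 hs hc⟩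
    · rintro rfl
      exact hs.2 h3
    · rintro rfl
      exact hs.2 (neg_inRootSub C3 h3)
  · have h4 : D.IsPosRoot r := by
      rcases h1 with h1 | h1
      · exact h1
      · exact absurd h1 h3
    have h5 : xG C r t ∈ RS C (RJ D J) F := xG_mem_RS C h4.1 ⟨h4, h3⟩ t
    exact Subgroup.le_normalizer h5

include C C2 C3 in
theorem para_sup (J : Set ℕ) : D.unipotentRadical F J ⊔ D.leviSubgroup F J = D.parabolicSubgroup F J := by
  apply le_antisymm
  · refine sup_le ?_ ?_
    · unfold Cfsg.Lie.ChevalleyDatum.unipotentRadical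
      rw [Subgroup.closure_le]
      rintro g ⟨r, t, h1, _, h3⟩
      have hg : g = xG C r t := eq_xG C h3
      rw [hg]
      exact B_le_para (U_le_B (xG_mem_pos C h1 t))
    · rw [para_eq C C2 C3 J]
      unfold Cfsg.Lie.ChevalleyDatum.leviSubgroup
      refine sup_le le_sup_left (le_trans ?_ le_sup_right)
      apply Subgroup.closure_mono
      rintro g ⟨r, t, h1, h2⟩
      exact ⟨r, t, Or.inr h1, h2⟩
  · rw [para_eq C C2 C3 J]
    refine sup_le (le_trans ?_ le_sup_right) ?_
    · unfold Cfsg.Lie.ChevalleyDatum.leviSubgroup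
      exact le_sup_left
    · rw [Subgroup.closure_le]
      rintro g ⟨r, t, h1, h2⟩
      by_cases h3 : D.InRootSub J r
      · apply Subgroup.mem_sup_right
        apply Subgroup.mem_sup_right
        exact Subgroup.subset_closure ⟨r, t, h3, h2⟩
      · apply Subgroup.mem_sup_left
        have h4 : D.IsPosRoot r := by
          rcases h1 with h1 | h1
          · exact h1
          · exact absurd h1 h3
        exact Subgroup.subset_closure ⟨r, t, h4, h3, h2⟩

/-- the grading by the coefficients outside `J` -/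
noncomputable def ellJ (U : Tabs3) (D : ChevalleyDatum) (J : Set ℕ) : ℕ → ℤ := by
  classical
  exact ellOf U D (fun i => if i ∈ J then 0 else 1)

include C C2 C3 in
theorem para_inf (J : Set ℕ) : D.unipotentRadical F J ⊓ D.leviSubgroup F J = ⊥ := by
  classical
  rw [eq_bot_iff]
  intro g hg
  obtain ⟨h1, h2⟩ := Subgroup.mem_inf.mp hg
  have hgr : Graded D T (ellJ U D J) := ellOf_graded C3 _
  have hsum : ∀ r, ellJ U D J r = ∑ j ∈ Finset.range D.rank, (if j ∈ J then 0 else 1) * U.cofI r j := by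
    intro r
    rfl
  rw [Subgroup.mem_bot]
  apply eq_one_of_Uni_Deg (ℓ := ellJ U D J)
  · unfold Cfsg.Lie.ChevalleyDatum.unipotentRadical at h1
    refine (Subgroup.closure_le _).mpr ?_ h1
    rintro x ⟨r, t, h3, h4, h5⟩
    have hx : x = xG C r t := eq_xG C h5
    rw [hx]
    apply xG_mem_UniL C hgr h3.1
    obtain ⟨i, hi, hiJ, h6⟩ := RJ_spec C C2 C3 (⟨h3, h4⟩ : RJ D J r)
    obtain ⟨h7, h8⟩ := (C2.pos_iff r).mp h3
    rw [hsum]
    apply Finset.sum_pos'
    · intro j hj
      split_ifs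
      · simp
      · rw [one_mul]
        exact C3.cof_pos r h7 h8 j (Finset.mem_range.mp hj)
    · refine ⟨i, Finset.mem_range.mpr hi, ?_⟩
      rw [if_neg hiJ, one_mul]
      exact h6
  · unfold Cfsg.Lie.ChevalleyDatum.leviSubgroup at h2
    refine (sup_le (H_le_DegL C C3 _) ?_) h2
    rw [Subgroup.closure_le]
    rintro x ⟨r, t, h3, h5⟩
    have hx : x = xG C r t := eq_xG C h5
    rw [hx]
    apply xG_mem_DegL C hgr h3.1
    rw [hsum]
    apply Finset.sum_eq_zero
    intro j hj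
    split_ifs with h4
    · simp
    · rw [(inRootSub_iff C3).mp h3 |>.2 j (Finset.mem_range.mp hj) h4, mul_zero]

include C C2 C3 in
/-- S1049 -/
theorem normalizer_radical {J : Set ℕ} (hJ : ∀ j ∈ J, j < D.rank) :
    Subgroup.normalizer (D.unipotentRadical F J : Set (GL D.Idx F)) ⊓ D.group F = D.parabolicSubgroup F J := by
  have hPG : D.parabolicSubgroup F J ≤ D.group F := by
    unfold Cfsg.Lie.ChevalleyDatum.parabolicSubgroup
    refine sup_le (B_le_group C) ?_
    rw [Subgroup.closure_le]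
    rintro g ⟨j, _, hj, h⟩
    have : g = nG C (D.simple j) 1 := Units.ext (by rw [h, nG_val])
    rw [this]
    exact nG_mem_group C (C.simple_lt j hj) 1
  apply le_antisymm
  · let P := bnPair C C2 C3 F
    let M : Subgroup ↥(D.group F) := (Subgroup.normalizer (D.unipotentRadical F J : Set (GL D.Idx F))).subgroupOf (D.group F)
    have hM : P.B ≤ M := by
      intro b hb
      exact para_le_normalizer C C2 C3 J (B_le_para hb)
    have h1 := Cfsg.Agent.H02.BN.parabolic_inter_eq M hM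
    have h2 : P.parabolic (P.S ∩ M) ≤ (D.parabolicSubgroup F J).subgroupOf (D.group F) := by
      unfold Cfsg.BNPair.parabolic
      refine sup_le (fun b hb => B_le_para hb) ?_
      rw [Subgroup.closure_le]
      rintro s ⟨hs, hsM⟩
      obtain ⟨i, hi, e⟩ := (mem_SS C).mp hs
      show (s : GL D.Idx F) ∈ D.parabolicSubgroup F J
      rw [e]
      by_cases hiJ : i ∈ J
      · exact nG_mem_para C hi hiJ
      · exfalso
        have hp := C.simple_lt i hi
        have hp0 := C3.simple_pos i hi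
        have h3 : (s : GL D.Idx F) ∈ Subgroup.normalizer (D.unipotentRadical F J : Set (GL D.Idx F)) := hsM
        rw [e] at h3
        have h4 : xG C (D.simple i) (1 : F) ∈ D.unipotentRadical F J := by
          rw [UJ_eq C J]
          refine xG_mem_RS C hp ⟨(C2.pos_iff _).mpr ⟨hp0, hp⟩, ?_⟩ _
          intro h5
          have := (inRootSub_iff C3).mp h5 |>.2 i hi hiJ
          rw [C3.cof_simple i hi i hi, if_pos rfl] at this
          exact one_ne_zero this
        have h5 := (Subgroup.mem_normalizer_iff.mp h3 _).mp h4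
        have h6 := conj_nG_self C C3 hi (1 : F)
        rw [h6, mul_inv_cancel_right] at h5
        have h7 : D.unipotentRadical F J ≤ D.borelSubgroup F := by
          unfold Cfsg.Lie.ChevalleyDatum.unipotentRadical
          rw [Subgroup.closure_le]
          rintro x ⟨r, t, h8, _, h9⟩
          have hx : x = xG C r t := eq_xG C h9
          rw [hx]
          exact U_le_B (xG_mem_pos C h8 t)
        exact nG_not_in_B_aux C C2 C3 hi (h7 h5)
    intro g hg
    obtain ⟨g1, hg2⟩ := Subgroup.mem_inf.mp hg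
    have h3 : (⟨g, hg2⟩ : ↥(D.group F)) ∈ M := g1
    rw [h1] at h3
    exact h2 h3
  · intro g hg
    exact Subgroup.mem_inf.mpr ⟨para_le_normalizer C C2 C3 J hg, hPG hg⟩

end

end Cfsg.Agent.H04.Chev
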