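import Cfsg.Agent.Lib.H04.Chev.TorusCard
import Cfsg.Agent.Lib.H04.Chev.Sound3
import Cfsg.Prelude.Def_ChevG2
import Cfsg.Prelude.Def_ChevB2
import Cfsg.Prelude.Def_ChevD4
import Cfsg.Prelude.Def_ChevF4
import Cfsg.Prelude.Def_ChevE6
import Cfsg.Prelude.Def_ChevE7
import Cfsg.Prelude.Def_ChevE8

/-! Generated: Smith normal forms of the Cartan matrices. -/

set_option autoImplicit false
set_option maxRecDepth 100000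

open Cfsg.Lie

namespace Cfsg.Agent.H04.Chev

/-- entry of a list of lists -/
@[reducible] def ent (L : List (List ℤ)) (i j : ℕ) : ℤ := (L.getD i []).getD j 0

/-- a matrix from lists -/
def ofL (n : ℕ) (L : List (List ℤ)) : Matrix (Fin n) (Fin n) ℤ := fun i j => ent L i j

/-- the product of two lists -/
noncomputable def prodL (n : ℕ) (P Q : List (List ℤ)) (i j : ℕ) : ℤ := sumZ n fun k => ent P i k * ent Q k j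

/-- the check of the Smith normal form -/
noncomputable def smithCheck (D : ChevalleyDatum) (dl : List ℕ) (P Q P' Q' : List (List ℤ)) : Bool :=
  allRange D.rank fun i => allRange D.rank fun j =>
    bnd (decide (D.cartan i (D.simple j) = sumZ D.rank fun k => ent P i k * ((dl.getD k 1 : ℕ) : ℤ) * ent Q k j))
    (bnd (decide (prodL D.rank P P' i j = if i = j then 1 else 0))
    (bnd (decide (prodL D.rank P' P i j = if i = j then 1 else 0))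
    (bnd (decide (prodL D.rank Q Q' i j = if i = j then 1 else 0))
    (decide (prodL D.rank Q' Q i j = if i = j then 1 else 0)))))

/-- the Smith normal form -/
def SmithOK (D : ChevalleyDatum) (dl : List ℕ) : Prop :=
  ∃ P Q P' Q' : Matrix (Fin D.rank) (Fin D.rank) ℤ, cartanM D = P * Matrix.diagonal (fun k : Fin D.rank => ((dl.getD k.1 1 : ℕ) : ℤ)) * Q ∧
    P * P' = 1 ∧ P' * P = 1 ∧ Q * Q' = 1 ∧ Q' * Q = 1

lemma one_of_prodL {n : ℕ} {P Q : List (List ℤ)} (h : ∀ i j : Fin n, prodL n P Q i j = if (i : ℕ) = j then 1 else 0) :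
    ofL n P * ofL n Q = 1 := by
  ext i j
  rw [Matrix.mul_apply, Matrix.one_apply]
  have h1 := h i j
  unfold prodL at h1
  rw [sumZ_eq, ← Fin.sum_univ_eq_sum_range (fun k => ent P i k * ent Q k j)] at h1
  have h2 : ((i : ℕ) = j) ↔ i = j := Fin.val_inj
  simp only [h2] at h1
  exact h1

theorem smith_of_check {D : ChevalleyDatum} {dl : List ℕ} {P Q P' Q' : List (List ℤ)} (h : smithCheck D dl P Q P' Q' = true) :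
    SmithOK D dl := by
  have h0 : ∀ i j : Fin D.rank, _ := fun i j => allRange_spec (allRange_spec h i i.2) j j.2
  simp only [bnd_eq_true, decide_eq_true_eq] at h0
  refine ⟨ofL _ P, ofL _ Q, ofL _ P', ofL _ Q', ?_, one_of_prodL fun i j => (h0 i j).2.1, one_of_prodL fun i j => (h0 i j).2.2.1,
    one_of_prodL fun i j => (h0 i j).2.2.2.1, one_of_prodL fun i j => (h0 i j).2.2.2.2⟩
  ext i j
  have h1 := (h0 i j).1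
  rw [sumZ_eq, ← Fin.sum_univ_eq_sum_range (fun k => ent P i k * ((dl.getD k 1 : ℕ) : ℤ) * ent Q k j)] at h1
  rw [Matrix.mul_apply]
  simp only [Matrix.mul_diagonal]
  exact h1

theorem smithG2 : SmithOK chevG2 [1, 1] :=
  smith_of_check (P := [[2, 1], [-1, 0]]) (Q := [[1, -2], [0, 1]]) (P' := [[0, -1], [1, 2]]) (Q' := [[1, 2], [0, 1]]) (by decide +kernel)

theorem smithB2 : SmithOK chevB2 [1, 2] :=
  smith_of_check (P := [[2, 1], [-1, 0]]) (Q := [[1, -2], [0, 1]]) (P' := [[0, -1], [1, 2]]) (Q' := [[1, 2], [0, 1]]) (by decide +kernel)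

theorem smithD4 : SmithOK chevD4 [1, 1, 2, 2] :=
  smith_of_check (P := [[-1, 0, 0, 0], [2, -1, 0, 0], [-1, 2, -1, 0], [-1, 0, 1, 1]]) (Q := [[-2, 1, 0, 0], [-3, 0, 1, 1], [-2, 0, 0, 1], [1, 0, 0, 0]]) (P' := [[-1, 0, 0, 0], [-2, -1, 0, 0], [-3, -2, -1, 0], [2, 2, 1, 1]]) (Q' := [[0, 0, 0, 1], [1, 0, 0, 2], [0, 1, -1, 1], [0, 0, 1, 2]]) (by decide +kernel)

theorem smithF4 : SmithOK chevF4 [1, 1, 1, 1] :=
  smith_of_check (P := [[-1, 0, 0, 0], [2, 0, -1, 0], [-1, -1, 0, 0], [0, 2, 2, -1]]) (Q := [[-2, 1, 0, 0], [2, 0, -2, 1], [-3, 0, 2, 0], [-2, 0, 1, 0]]) (P' := [[-1, 0, 0, 0], [1, 0, -1, 0], [-2, -1, 0, 0], [-2, -2, -2, -1]]) (Q' := [[0, 0, 1, -2], [1, 0, 2, -4], [0, 0, 2, -3], [0, 1, 2, -2]]) (by decide +kernel)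

theorem smithE6 : SmithOK chevE6 [1, 1, 1, 1, 1, 3] :=
  smith_of_check (P := [[-1, 0, 0, 0, 0, 0], [0, -1, 0, 0, 0, 0], [2, -1, 0, 0, -1, 0], [-1, 2, -1, 0, 0, 0], [0, -1, 2, -1, 0, 0], [0, 0, -1, 2, 4, -1]]) (Q := [[-2, 0, 1, 0, 0, 0], [0, -2, 0, 1, 0, 0], [2, -3, 0, 0, 1, 0], [4, -4, 0, 0, 0, 1], [-3, 2, 0, 0, 0, 0], [-2, 1, 0, 0, 0, 0]]) (P' := [[-1, 0, 0, 0, 0, 0], [0, -1, 0, 0, 0, 0], [1, -2, 0, -1, 0, 0], [2, -3, 0, -2, -1, 0], [-2, 1, -1, 0, 0, 0], [-5, 0, -4, -3, -2, -1]]) (Q' := [[0, 0, 0, 0, 1, -2], [0, 0, 0, 0, 2, -3], [1, 0, 0, 0, 2, -4], [0, 1, 0, 0, 4, -6], [0, 0, 1, 0, 4, -5], [0, 0, 0, 1, 4, -4]]) (by decide +kernel)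

theorem smithE7 : SmithOK chevE7 [1, 1, 1, 1, 1, 1, 2] :=
  smith_of_check (P := [[-1, 0, 0, 0, 0, 0, 0], [0, -1, 0, 0, 0, 0, 0], [2, -1, 0, 0, 0, -1, 0], [-1, 2, -1, 0, 0, 0, 0], [0, -1, 2, -1, 0, 0, 0], [0, 0, -1, 2, -1, 0, 0], [0, 0, 0, -1, 2, 4, -1]]) (Q := [[-2, 0, 1, 0, 0, 0, 0], [0, -2, 0, 1, 0, 0, 0], [2, -3, 0, 0, 1, 0, 0], [4, -4, 0, 0, 0, 1, 0], [6, -5, 0, 0, 0, 0, 1], [-3, 2, 0, 0, 0, 0, 0], [-2, 1, 0, 0, 0, 0, 0]]) (P' := [[-1, 0, 0, 0, 0, 0, 0], [0, -1, 0, 0, 0, 0, 0], [1, -2, 0, -1, 0, 0, 0], [2, -3, 0, -2, -1, 0, 0], [3, -4, 0, -3, -2, -1, 0], [-2, 1, -1, 0, 0, 0, 0], [-4, -1, -4, -4, -3, -2, -1]]) (Q' := [[0, 0, 0, 0, 0, 1, -2], [0, 0, 0, 0, 0, 2, -3], [1, 0, 0, 0, 0, 2, -4], [0, 1, 0, 0, 0, 4, -6], [0, 0, 1, 0, 0, 4, -5], [0, 0, 0, 1, 0, 4, -4], [0, 0, 0, 0, 1, 4, -3]]) (by decide +kernel)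

theorem smithE8 : SmithOK chevE8 [1, 1, 1, 1, 1, 1, 1, 1] :=
  smith_of_check (P := [[-1, 0, 0, 0, 0, 0, 0, 0], [0, -1, 0, 0, 0, 0, 0, 0], [2, -1, 0, 0, 0, 0, -1, 0], [-1, 2, -1, 0, 0, 0, 0, 0], [0, -1, 2, -1, 0, 0, 0, 0], [0, 0, -1, 2, -1, 0, 0, 0], [0, 0, 0, -1, 2, -1, 0, 0], [0, 0, 0, 0, -1, 2, 4, -1]]) (Q := [[-2, 0, 1, 0, 0, 0, 0, 0], [0, -2, 0, 1, 0, 0, 0, 0], [2, -3, 0, 0, 1, 0, 0, 0], [4, -4, 0, 0, 0, 1, 0, 0], [6, -5, 0, 0, 0, 0, 1, 0], [8, -6, 0, 0, 0, 0, 0, 1], [-3, 2, 0, 0, 0, 0, 0, 0], [-2, 1, 0, 0, 0, 0, 0, 0]]) (P' := [[-1, 0, 0, 0, 0, 0, 0, 0], [0, -1, 0, 0, 0, 0, 0, 0], [1, -2, 0, -1, 0, 0, 0, 0], [2, -3, 0, -2, -1, 0, 0, 0], [3, -4, 0, -3, -2, -1, 0, 0], [4, -5, 0, -4, -3, -2, -1, 0], [-2, 1, -1, 0, 0, 0, 0, 0], [-3, -2, -4, -5, -4, -3, -2, -1]]) (Q' := [[0, 0, 0, 0, 0, 0, 1, -2], [0, 0, 0, 0, 0, 0, 2, -3],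 [1, 0, 0, 0, 0, 0, 2, -4], [0, 1, 0, 0, 0, 0, 4, -6], [0, 0, 1, 0, 0, 0, 4, -5], [0, 0, 0, 1, 0, 0, 4, -4], [0, 0, 0, 0, 1, 0, 4, -3], [0, 0, 0, 0, 0, 1, 4, -2]]) (by decide +kernel)

end Cfsg.Agent.H04.Chev
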